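import Groth.Agent.LimMor.AmpleHomeo
import Groth.Agent.AmpleX.Comp
import Groth.Prelude.Def_MoreMor

/-!
# Relative ampleness on a thickening
-/

universe u

open CategoryTheory CategoryTheory.Limits AlgebraicGeometry TopologicalSpace Opposite

set_option backward.isDefEq.respectTransparency false
set_option backward.isDefEq.respectTransparency.types false

namespace Groth.Agent.RelPC13.ThickRA

open Groth.Agent Groth.Agent.AmpleX

variable {X X' S S' : Scheme.{u}}

theorem isRelAmple_iff (iX : X ⟶ X') (iS : S ⟶ S') (f : X ⟶ S) (f' : X' ⟶ S')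
    (hX : MoreMor.IsThickening iX) (hS : MoreMor.IsThickening iS) (w : iX ≫ f' = f ≫ iS)
    (L' : X'.Modules) (hL' : PicF.IsInvertible L') :
    RelAmple.IsRelAmple f' L' ↔ RelAmple.IsRelAmple f ((Scheme.Modules.pullback iX).obj L') := by
  have := hX.1
  have := hX.2
  have := hS.1
  constructor
  · intro h
    have h1 := isRelAmple_pullback_embedding f' iX iX.isClosedEmbedding.isEmbedding h
    rw [w] at h1
    have : QuasiCompact (f ≫ iS) := h1.1
    have : QuasiCompact f := QuasiCompact.of_comp f iS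
    exact isRelAmple_of_comp iS h1
  · intro h
    let L := (Scheme.Modules.pullback iX).obj L'
    have key : ∀ V' : S'.affineOpens, CohB1.IsAmple (L'.restrict (f' ⁻¹ᵁ V'.1).ι) := fun V' => by
      let W := f' ⁻¹ᵁ V'.1
      have hW : iX ⁻¹ᵁ W = f ⁻¹ᵁ (iS ⁻¹ᵁ V'.1) := by
        change (iX ≫ f') ⁻¹ᵁ V'.1 = (f ≫ iS) ⁻¹ᵁ V'.1
        rw [w]
      have h0 : CohB1.IsAmple (L.restrict (iX ⁻¹ᵁ W).ι) :=
        isAmple_restrict_congr (f ⁻¹ᵁ (iS ⁻¹ᵁ V'.1)).ι _ (PicClLib.isInvertible_pullback iX hL')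
          (by rw [Scheme.Opens.opensRange_ι, Scheme.Opens.opensRange_ι, hW])
          (h.2 ⟨_, V'.2.preimage iS⟩)
      have : IsClosedImmersion (iX ∣_ W) := IsZariskiLocalAtTarget.restrict (P := @IsClosedImmersion) inferInstance W
      have hsur : Function.Surjective (iX ∣_ W) := fun z => by
        obtain ⟨x, hx⟩ := iX.surjective z.1
        exact ⟨⟨x, show iX x ∈ W from hx ▸ z.2⟩, Subtype.ext ((morphismRestrict_base_coe iX W _).trans hx)⟩
      have hhom : IsHomeomorph (iX ∣_ W).base :=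
        isHomeomorph_iff_isEmbedding_surjective.2 ⟨(iX ∣_ W).isClosedEmbedding.isEmbedding, hsur⟩
      refine LimMor.isAmple_of_pullback (iX ∣_ W) hhom (isInvertible_restrict _ hL')
        (isAmple_of_iso ?_ h0)
      exact (Scheme.Modules.restrictFunctorIsoPullback (iX ⁻¹ᵁ W).ι).app L ≪≫
        (Scheme.Modules.pullbackComp (iX ⁻¹ᵁ W).ι iX).app L' ≪≫
        (Scheme.Modules.pullbackCongr (morphismRestrict_ι iX W).symm).app L' ≪≫
        ((Scheme.Modules.pullbackComp (iX ∣_ W) W.ι).app L').symm ≪≫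
        (Scheme.Modules.pullback (iX ∣_ W)).mapIso ((Scheme.Modules.restrictFunctorIsoPullback W.ι).app L').symm
    refine ⟨quasiCompact_iff_forall_isAffineOpen.2 fun V hV => ?_, key⟩
    exact isCompact_iff_compactSpace.2 (key ⟨V, hV⟩).2.1

end Groth.Agent.RelPC13.ThickRA
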